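import Mathlib.RingTheory.SimpleModule.Basic
import Mathlib.LinearAlgebra.Eigenspace.Triangularizable
import Mathlib.LinearAlgebra.Trace
import Mathlib.RepresentationTheory.Basic
import Mathlib.LinearAlgebra.Dual.Lemmas
import Mathlib.RingTheory.Artinian.Module
import Mathlib.RingTheory.Nilpotent.Lemmas

/-!
# Kolchin's theorem
-/

set_option autoImplicit false

open Module

namespace Groth.Agent.Kolchin

universe u v w

variable {K : Type u} [Field K] [IsAlgClosed K] {Γ : Type v} [Monoid Γ]

/-- An irreducible unipotent representation over an algebraically closed field is trivial. -/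
theorem eq_one_of_irreducible {U : Type w} [AddCommGroup U] [Module K U] [FiniteDimensional K U]
    [Nontrivial U] (ρ : Γ →* Module.End K U) (hρ : ∀ g, IsNilpotent (ρ g - 1))
    (hirr : ∀ p : Submodule K U, (∀ g, ∀ x ∈ p, ρ g x ∈ p) → p = ⊥ ∨ p = ⊤) (h : Γ) : ρ h = 1 := by
  classical
  let R := Algebra.adjoin K (Set.range ρ)
  have hmem : ∀ g, ρ g ∈ R := fun g => Algebra.subset_adjoin ⟨g, rfl⟩
  haveI : IsSimpleModule R U := by
    haveI : IsSimpleOrder (Submodule R U) :=
      { eq_bot_or_eq_top := fun q => by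
          rcases hirr (q.restrictScalars K) (fun g x hx => q.smul_mem ⟨ρ g, hmem g⟩ hx) with e | e
          · exact Or.inl ((Submodule.restrictScalars_eq_bot_iff K R U).1 e)
          · exact Or.inr ((Submodule.restrictScalars_eq_top_iff K R U).1 e) }
    exact ⟨⟩
  have hend : ∀ e : Module.End R U, ∃ μ : K, ∀ x, e x = μ • x := by
    intro e
    let eK : Module.End K U := e.restrictScalars K
    obtain ⟨μ, hμ⟩ := Module.End.exists_eigenvalue eK
    refine ⟨μ, fun x => ?_⟩
    have hinv : ∀ g, ∀ y ∈ Module.End.eigenspace eK μ, ρ g y ∈ Module.End.eigenspace eK μ := by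
      intro g y hy
      rw [Module.End.mem_eigenspace_iff] at hy ⊢
      show e ((⟨ρ g, hmem g⟩ : R) • y) = μ • ρ g y
      rw [map_smul, show e y = μ • y from hy]
      exact map_smul (ρ g) μ y
    rcases hirr (Module.End.eigenspace eK μ) hinv with h0 | h0
    · exact absurd h0 hμ
    · exact Module.End.mem_eigenspace_iff.1 (h0 ▸ Submodule.mem_top : x ∈ Module.End.eigenspace eK μ)
  have hdens : ∀ f : U →ₗ[K] U, f ∈ R := by
    intro f
    let f' : Module.End (Module.End R U) U :=
      { toFun := f
        map_add' := map_add f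
        map_smul' := fun e x => by
          obtain ⟨μ, hμ⟩ := hend e
          simp [Module.End.smul_def, hμ] }
    let b := Module.finBasis K U
    obtain ⟨r, hr⟩ := jacobson_density f' (Finset.univ.image b)
    have : f = (r : U →ₗ[K] U) := b.ext fun i => hr (b i) (by simp)
    rw [this]
    exact r.2
  have htr : ∀ g, LinearMap.trace K U (ρ g) = LinearMap.trace K U 1 := fun g => by
    rw [← sub_eq_zero, ← map_sub]
    exact (LinearMap.isNilpotent_trace_of_isNilpotent (hρ g)).eq_zero
  have key : ∀ f ∈ R, LinearMap.trace K U (f * (ρ h - 1)) = 0 := by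
    intro f hf
    have hs : f ∈ Submodule.span K (Set.range ρ) := by
      have e : (Submonoid.closure (Set.range ρ) : Set (Module.End K U)) = Set.range ρ := by
        rw [← MonoidHom.coe_mrange, Submonoid.closure_eq]
      have := Algebra.adjoin_eq_span K (Set.range ρ)
      rw [e] at this
      exact this ▸ hf
    clear hf
    induction hs using Submodule.span_induction with
    | mem x hx =>
      obtain ⟨g, rfl⟩ := hx
      rw [mul_sub, mul_one, ← map_mul, map_sub, htr, htr g, sub_self]
    | zero => simp
    | add x y _ _ hx hy => rw [add_mul, map_add, hx, hy, add_zero]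
    | smul a x _ hx => rw [smul_mul_assoc, map_smul, hx, smul_zero]
  rw [← sub_eq_zero]
  refine LinearMap.ext fun x => ?_
  rw [LinearMap.zero_apply]
  refine (Module.forall_dual_apply_eq_zero_iff K _).1 fun φ => ?_
  have := key (φ.smulRight x) (hdens _)
  rwa [show φ.smulRight x * (ρ h - 1) = (φ.comp (ρ h - 1)).smulRight x from rfl,
    LinearMap.trace_smulRight] at this

/-- Kolchin: a unipotent representation over an algebraically closed field has a fixed vector. -/
theorem exists_fixed {W : Type w} [AddCommGroup W] [Module K W] [FiniteDimensional K W]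
    [Nontrivial W] (ρ : Γ →* Module.End K W) (hρ : ∀ g, IsNilpotent (ρ g - 1)) :
    ∃ x : W, x ≠ 0 ∧ ∀ g, ρ g x = x := by
  classical
  let S : Set (Submodule K W) := {p | p ≠ ⊥ ∧ ∀ g, ∀ x ∈ p, ρ g x ∈ p}
  obtain ⟨p, ⟨hp0, hp⟩, hmin⟩ := wellFounded_lt.has_min S ⟨⊤, top_ne_bot, fun _ _ _ => trivial⟩
  haveI : Nontrivial p := Submodule.nontrivial_iff_ne_bot.2 hp0
  let σ : Γ →* Module.End K p :=
    { toFun := fun g => (ρ g).restrict (hp g)
      map_one' := LinearMap.ext fun x => Subtype.ext (by simp)
      map_mul' := fun a b => LinearMap.ext fun x => Subtype.ext (by simp) }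
  have hσ : ∀ g, IsNilpotent (σ g - 1) := fun g => by
    obtain ⟨n, hn⟩ := hρ g
    refine ⟨n, LinearMap.ext fun x => Subtype.ext ?_⟩
    have : ∀ (j : ℕ) (y : p), (((σ g - 1) ^ j) y : W) = ((ρ g - 1) ^ j) y := by
      intro j
      induction j with
      | zero => intro y; rfl
      | succ j ih => intro y; rw [pow_succ', pow_succ', Module.End.mul_apply, Module.End.mul_apply, ← ih]; rfl
    rw [this, hn]; rfl
  have hirr : ∀ q : Submodule K p, (∀ g, ∀ x ∈ q, σ g x ∈ q) → q = ⊥ ∨ q = ⊤ := by
    intro q hq
    by_contra hc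
    rw [not_or] at hc
    refine hmin (q.map p.subtype) ⟨fun h => hc.1 (Submodule.map_injective_of_injective p.subtype_injective (h.trans (Submodule.map_bot _).symm)), ?_⟩ ?_
    · rintro g _ ⟨x, hx, rfl⟩
      exact ⟨σ g x, hq g x hx, rfl⟩
    · refine lt_of_le_of_ne (Submodule.map_subtype_le p q) fun h => hc.2 ?_
      exact Submodule.map_injective_of_injective p.subtype_injective (h.trans p.map_subtype_top.symm)
  obtain ⟨x, hx, hx0⟩ := Submodule.exists_mem_ne_zero_of_ne_bot hp0
  exact ⟨x, hx0, fun g => congrArg Subtype.val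
    (LinearMap.congr_fun (eq_one_of_irreducible σ hσ hirr g) ⟨x, hx⟩)⟩

end Groth.Agent.Kolchin
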